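import Groth.Prelude.Def_Red
import Mathlib.AlgebraicGeometry.Morphisms.FlatMono
import Groth.Agent.Sga3.H787.FlatAff
import Groth.Agent.Sga3.H787.HullKer
import Groth.Agent.S3024

/-!
# The largest anti-affine subgroup, and minimality

Every algebraic group `G` over a field has a closed anti-affine subgroup (the kernel of the affine hull
`G ⟶ Spec 𝒪(G)`), and `G` is affine as soon as that subgroup is trivial.
-/

set_option autoImplicit false
universe u
open CategoryTheory MonoidalCategory CartesianMonoidalCategory MonObj GrpObj AlgebraicGeometry Limits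

namespace K393.AntiMin

open Groth.Agent.Sga3C.Affinization Groth.Agent.Sga3B.KerGrp Groth.Agent.Sga3.H787.FlatAff

variable {k : Type u} [Field k]

/-- The affine hull of an algebraic group is surjective. -/
theorem surjective_of_isAffinization {G H : Over (Spec (CommRingCat.of k))} [GrpObj G] [GrpObj H]
    [LocallyOfFiniteType G.hom] [QuasiCompact G.hom] (u : G ⟶ H) [IsMonHom u]
    (ha : IsAffinization u) : Surjective u.left := by
  have := ha.isAffine
  have := ha.isIso
  have h8 : QuasiCompact (u.left ≫ H.hom) := by rw [Over.w]; infer_instance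
  have h10 : QuasiCompact u.left := QuasiCompact.of_comp u.left H.hom
  have h3 := dominant_of_injective u.left
    (ConcreteCategory.bijective_of_isIso u.left.appTop).1
  exact Groth.Agent.S3024.surjective_of_dominant u

/-- A homomorphism with trivial kernel is a monomorphism. -/
theorem mono_of_ker {S : Scheme.{u}} {G H : Over S} [GrpObj G] [GrpObj H] (u : G ⟶ H) [IsMonHom u]
    (h : ∀ (X : Over S) (x : X ⟶ G), x ≫ u = 1 → x = 1) : Mono u := by
  constructor
  intro X a b hab
  have h1 : (a * b⁻¹) ≫ u = 1 := by
    rw [MonObj.mul_comp, GrpObj.inv_comp, hab, mul_inv_cancel]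
  exact mul_inv_eq_one.mp (h X _ h1)

/-- A morphism to a trivial group is trivial. -/
theorem hom_eq_one {S : Scheme.{u}} {N : Over S} [GrpObj N] (hN : Red.IsTrivialGrp N) {X : Over S}
    (t : X ⟶ N) : t = 1 := by
  have : IsIso N.hom := hN
  apply Over.OverMorphism.ext
  rw [← cancel_mono N.hom, Over.w, Over.w]

/-- Two closed immersions onto each other: a homomorphism `h : H ⟶ G` with closed immersion through
which an isomorphism factors is an isomorphism. -/
theorem isIso_of_comp {S : Scheme.{u}} {N H G : Over S} (n : N ⟶ H) (h : H ⟶ G) [Mono h]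
    (hi : IsIso (n ≫ h)) : IsIso h := by
  have h1 : IsSplitEpi h := ⟨⟨⟨inv (n ≫ h) ≫ n, by rw [Category.assoc, IsIso.inv_hom_id]⟩⟩⟩
  exact isIso_of_mono_of_isSplitEpi h

/-- An affine anti-affine group scheme over a field is trivial. -/
theorem trivial_of_affine_of_antiAffine (N : Over (Spec (CommRingCat.of k)))
    [IsAffine N.left]
    (h : Function.Bijective ((Scheme.ΓSpecIso (CommRingCat.of k)).inv ≫ N.hom.appTop).hom) :
    IsIso N.hom := by
  have h1 : IsIso ((Scheme.ΓSpecIso (CommRingCat.of k)).inv ≫ N.hom.appTop) :=
    (ConcreteCategory.isIso_iff_bijective _).mpr h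
  have h2 : IsIso N.hom.appTop := IsIso.of_isIso_comp_left (Scheme.ΓSpecIso (CommRingCat.of k)).inv _
  have h3 := Scheme.toSpecΓ_naturality N.hom
  have h4 : IsIso (N.hom ≫ (Spec (CommRingCat.of k)).toSpecΓ) := by rw [h3]; infer_instance
  exact IsIso.of_isIso_comp_right N.hom (Spec (CommRingCat.of k)).toSpecΓ

/-- A trivial group is anti-affine and affine. -/
theorem isAffine_of_trivial {N : Over (Spec (CommRingCat.of k))} (h : IsIso N.hom) :
    IsAffine N.left := IsAffine.of_isIso N.hom

/-- The kernel of the affine hull. -/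
theorem exists_antiAffine (G : Over (Spec (CommRingCat.of k))) [GrpObj G]
    [LocallyOfFiniteType G.hom] [QuasiCompact G.hom] :
    ∃ (N : Over (Spec (CommRingCat.of k))) (_ : GrpObj N) (n : N ⟶ G),
      IsMonHom n ∧ IsClosedImmersion n.left ∧
      Function.Bijective ((Scheme.ΓSpecIso (CommRingCat.of k)).inv ≫ N.hom.appTop).hom ∧
      (Red.IsTrivialGrp N → IsAffine G.left) := by
  have h1 : CompactSpace G.left := QuasiCompact.compactSpace_of_compactSpace G.hom
  have h2 : IsLocallyNoetherian G.left := LocallyOfFiniteType.isLocallyNoetherian G.hom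
  have ha := isAffinization_toAff G
  obtain ⟨_, h3⟩ := Groth.Agent.Sga3C.AffinizationGrp.exists_grpObj ha
  have h4 := ha.isAffine
  obtain ⟨_, h5⟩ := exists_grpObj (toAff G)
  refine ⟨kerObj (toAff G), inferInstance, kerι (toAff G), h5, inferInstance, ?_, ?_⟩
  · have h6 := Groth.Agent.Sga3.H787.HullKer.isIso_appTop_ker (toAff G) ha
    exact ConcreteCategory.bijective_of_isIso _
  · intro ht
    have h7 : Flat (toAff G).left := flat_toSpecΓ k G
    have h8 : Surjective (toAff G).left := surjective_of_isAffinization _ ha
    have h9 : QuasiCompact ((toAff G).left ≫ (affOver G).hom) := by rw [Over.w]; infer_instance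
    have h10 : QuasiCompact (toAff G).left := QuasiCompact.of_comp _ (affOver G).hom
    have h11 : Mono (toAff G) := by
      refine mono_of_ker _ fun X x hx => ?_
      obtain ⟨t, rfl⟩ := exists_lift (toAff G) x hx
      rw [hom_eq_one ht t, MonObj.one_comp]
    have h12 : Mono (toAff G).left := inferInstance
    have h13 : IsIso (toAff G).left := Flat.isIso_of_surjective_of_mono _
    exact IsAffine.of_isIso (toAff G).left

end K393.AntiMin
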