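import Groth.Agent.SGA3.K209.WordConn
import Groth.Agent.AbVar.K520.Prod
import Groth.Agent.Sga3.H780.RigidProper
import Mathlib.AlgebraicGeometry.Morphisms.FlatMono

/-!
# The subgroup generated by a proper subvariety

A proper geometrically integral scheme `Z` over a field `k` mapping to an algebraic group `G` generates,
through the differences `z₁ z₂⁻¹`, a proper closed subgroup scheme.
-/

set_option autoImplicit false
universe u
open CategoryTheory MonoidalCategory CartesianMonoidalCategory MonObj GrpObj AlgebraicGeometry Limits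

namespace K393.GenProper

open K209.Words K209.WordBC K209.WordConn Groth.Agent.Sga3.H782.Points

variable {k : Type u} [Field k]

theorem isProper_P (X : Over (Spec (CommRingCat.of k))) [IsProper X.hom] (n : ℕ) :
    IsProper (P X n).hom := by
  induction n with
  | zero => exact inferInstanceAs (IsProper (𝟙 _))
  | succ n ih => exact K520.Prod.isProper_tensor X (P X n)

/-- A scheme covered by the images of finitely many universally closed schemes is universally closed. -/
theorem universallyClosed_of_cover {H S : Scheme.{u}} (h : H ⟶ S) {I : Type} [Finite I]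
    (T : I → Scheme.{u}) (f : ∀ i, T i ⟶ H) [∀ i, UniversallyClosed (f i ≫ h)]
    (hf : ∀ x : H, ∃ i, x ∈ Set.range (f i).base) : UniversallyClosed h := by
  constructor
  intro H' S' i₁ i₂ h' sq
  change IsClosedMap h'
  intro C hC
  have key : h' '' C = ⋃ i, (pullback.fst i₁ (f i) ≫ h') '' (pullback.fst i₁ (f i) ⁻¹' C) := by
    ext s
    simp only [Set.mem_image, Set.mem_iUnion, Set.mem_preimage]
    constructor
    · rintro ⟨x, hx, rfl⟩
      obtain ⟨i, t, ht⟩ := hf (i₁ x)
      obtain ⟨w, hw1, -⟩ := Scheme.Pullback.exists_preimage_pullback (f := i₁) (g := f i) x t ht.symm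
      refine ⟨i, w, ?_, ?_⟩
      · rw [hw1]; exact hx
      · rw [Scheme.Hom.comp_apply, hw1]
    · rintro ⟨i, w, hw, rfl⟩
      exact ⟨_, hw, by rw [Scheme.Hom.comp_apply]⟩
  rw [key]
  refine isClosed_iUnion_of_finite fun i => ?_
  have h1 : IsClosedMap (pullback.fst i₁ (f i) ≫ h') :=
    UniversallyClosed.universally_isClosedMap _ _ _
      ((IsPullback.of_hasPullback i₁ (f i)).paste_horiz sq)
  exact h1 _ (hC.preimage (pullback.fst i₁ (f i)).continuous)

/-- **The subgroup generated by differences.** -/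
theorem exists_proper_subgroup (G Z : Over (Spec (CommRingCat.of k))) [GrpObj G]
    [LocallyOfFiniteType G.hom] [IsSeparated G.hom] (z : Z ⟶ G) [IsProper Z.hom]
    [GeometricallyIntegral Z.hom] :
    ∃ (H : Over (Spec (CommRingCat.of k))) (_ : GrpObj H) (i : H ⟶ G), IsMonHom i ∧
      IsClosedImmersion i.left ∧ IsProper H.hom ∧
      ∃ f : Z ⊗ Z ⟶ H, f ≫ i = (fst Z Z ≫ z) * (snd Z Z ≫ z)⁻¹ := by
  have hp : IsProper (Z ⊗ Z).hom := K520.Prod.isProper_tensor Z Z
  have hg : GeometricallyIntegral (Z ⊗ Z).hom := K520.Prod.geometricallyIntegral_tensor Z Z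
  have hgc : GeometricallyConnected (Z ⊗ Z).hom := ⟨fun _ _ _ _ _ _ h2 => by
    have := GeometricallyIntegral.geometrically_isIntegral (f := (Z ⊗ Z).hom) _ _ _ h2
    exact inferInstance⟩
  let f : Z ⊗ Z ⟶ G := (fst Z Z ≫ z) * (snd Z Z ≫ z)⁻¹
  have he : ev (1 : Pts G) ∈ Set.range f.left.base := by
    have h0 : Surjective Z.hom := inferInstance
    obtain ⟨x, -⟩ := h0.surj (IsLocalRing.closedPoint k)
    refine ⟨(lift (𝟙 Z) (𝟙 Z)).left.base x, ?_⟩
    have h1 : lift (𝟙 Z) (𝟙 Z) ≫ f = toUnit Z ≫ (1 : Pts G) := by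
      rw [MonObj.comp_mul, GrpObj.comp_inv, lift_fst_assoc, lift_snd_assoc, Category.id_comp,
        mul_inv_cancel, MonObj.comp_one]
    have h2 : (lift (𝟙 Z) (𝟙 Z)).left ≫ f.left = (toUnit Z).left ≫ (1 : Pts G).left := by
      rw [← Over.comp_left, h1, Over.comp_left]
    have h3 := congrArg (fun q => q.base x) h2
    refine Eq.trans ?_ (h3.trans ?_)
    · rfl
    · exact congrArg _ (Subsingleton.elim (α := PrimeSpectrum k) _ _)
  obtain ⟨N, hN⟩ := exists_isSubgrpSet G (Z ⊗ Z) f he
  obtain ⟨hF, hfN⟩ := hN N le_rfl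
  obtain ⟨H, hH, i, hi, hc, hred, hr, hfac⟩ := hF.exists_grp (cover_W f N)
  refine ⟨H, hH, i, hi, hc, ?_, hfac _ f inferInstance hfN⟩
  have h1 : IsSeparated H.hom := by rw [← Over.w i]; infer_instance
  have h2 : LocallyOfFiniteType H.hom := by rw [← Over.w i]; infer_instance
  have h3 : ∀ ε : Fin N → Bool, ∃ g : P (Z ⊗ Z) N ⟶ H, g ≫ i = uw f N ε := fun ε =>
    hfac _ _ inferInstance (by
      intro x hx
      rw [mem_W_iff]
      exact ⟨ε, hx⟩)
  choose g hg using h3
  have h4 : ∀ ε, UniversallyClosed ((g ε).left ≫ H.hom) := fun ε => by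
    have := isProper_P (Z ⊗ Z) N
    rw [Over.w]; infer_instance
  have h5 : UniversallyClosed H.hom := by
    refine universallyClosed_of_cover H.hom (fun _ => (P (Z ⊗ Z) N).left) (fun ε => (g ε).left) ?_
    intro x
    have hx : i.left.base x ∈ W f N := by rw [← hr]; exact ⟨x, rfl⟩
    rw [mem_W_iff] at hx
    obtain ⟨ε, t, ht⟩ := hx
    refine ⟨ε, t, i.left.isClosedEmbedding.injective ?_⟩
    rw [← hg ε] at ht
    exact ht
  exact { }

/-- A proper geometrically integral scheme over a field whose two projections `Z × Z ⟶ Z` agree has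
dimension zero. -/
theorem topologicalKrullDim_eq_zero (Z : Over (Spec (CommRingCat.of k))) [Surjective Z.hom]
    [QuasiCompact Z.hom] (h : fst Z Z = snd Z Z) : topologicalKrullDim Z.left = 0 := by
  have h1 : Mono Z.hom := by
    constructor
    intro T a b hab
    let T' : Over (Spec (CommRingCat.of k)) := Over.mk (a ≫ Z.hom)
    let a' : T' ⟶ Z := Over.homMk a
    let b' : T' ⟶ Z := Over.homMk b hab.symm
    have h2 : a' = b' := by
      have h3 : lift a' b' ≫ fst Z Z = lift a' b' ≫ snd Z Z := by rw [h]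
      rwa [lift_fst, lift_snd] at h3
    exact congrArg (·.left) h2
  have h2 : IsIso Z.hom := Flat.isIso_of_surjective_of_mono Z.hom
  have h3 : IsHomeomorph Z.hom := Z.hom.homeomorph.isHomeomorph
  rw [IsHomeomorph.topologicalKrullDim_eq _ h3]
  exact (PrimeSpectrum.topologicalKrullDim_eq_ringKrullDim k).trans (ringKrullDim_eq_zero_of_field k)

/-- A morphism `p : M ⟶ S` to an affine scheme inducing an isomorphism on global functions: every
morphism from `M` to an affine scheme factors through `p`. -/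
theorem exists_fac {M S X : Scheme.{u}} [IsAffine X] [IsAffine S] (p : M ⟶ S) [IsIso p.appTop]
    (f : M ⟶ X) : ∃ c : S ⟶ X, f = p ≫ c := by
  refine ⟨S.toSpecΓ ≫ inv (Spec.map p.appTop) ≫ Spec.map f.appTop ≫ inv X.toSpecΓ, ?_⟩
  rw [← Category.assoc p, Scheme.toSpecΓ_naturality, Category.assoc, IsIso.hom_inv_id_assoc,
    ← Category.assoc, ← Scheme.toSpecΓ_naturality, Category.assoc, IsIso.hom_inv_id,
    Category.comp_id]

/-- A morphism from a proper geometrically integral product `Z × Z` to an affine scheme is determined by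
its restriction to the diagonal. -/
theorem eq_of_diag (Z H : Over (Spec (CommRingCat.of k))) [IsProper Z.hom]
    [GeometricallyIntegral Z.hom] [IsAffine H.left] (f : Z ⊗ Z ⟶ H) :
    f = fst Z Z ≫ lift (𝟙 Z) (𝟙 Z) ≫ f := by
  have hp2 : IsProper (Z ⊗ Z).hom := K520.Prod.isProper_tensor Z Z
  have hg2 : GeometricallyIntegral (Z ⊗ Z).hom := K520.Prod.geometricallyIntegral_tensor Z Z
  have h0 : IsIso (Z ⊗ Z).hom.appTop := Groth.Agent.Sga3.H780.RigidProper.isIso_appTop_hom (Z ⊗ Z)
  obtain ⟨c, hc⟩ := exists_fac (Z ⊗ Z).hom f.left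
  apply Over.OverMorphism.ext
  rw [Over.comp_left, Over.comp_left, hc, Over.w_assoc, Over.w_assoc]

end K393.GenProper
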